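import Groth.Agent.TrdegDim.Basic
import Mathlib.RingTheory.Ideal.GoingDown
import Mathlib.RingTheory.TensorProduct.MvPolynomial
import Mathlib.RingTheory.Flat.Stability

/-!
# Components of `S ⊗_k K`

For `S` of finite type over a field `k` and a field extension `K`, a minimal prime of `S ⊗_k K`
lies over a minimal prime of `S`, and the two components have the same dimension.
-/

set_option autoImplicit false
set_option linter.style.haveILetI false
universe u

open TensorProduct

namespace Groth.Agent.TrdegDim

section Embed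

/-- A finite torsion-free module over a domain embeds linearly in a finite free module. -/
lemma exists_injective_pi (R A : Type u) [CommRing R] [IsDomain R] [CommRing A] [IsDomain A]
    [Algebra R A] [FaithfulSMul R A] [Module.Finite R A] :
    ∃ (m : ℕ) (j : A →ₗ[R] (Fin m → R)), Function.Injective j := by
  classical
  obtain ⟨n, s, hs⟩ := Module.Finite.exists_fin (R := R) (M := A)
  obtain ⟨I, hind, hI⟩ := exists_maximal_linearIndepOn R s
  let N := Submodule.span R (Set.range (s ∘ ((↑) : I → Fin n)))
  have hex : ∀ i, ∃ a : R, a ≠ 0 ∧ a • s i ∈ N := fun i => by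
    by_cases hi : i ∈ I
    · exact ⟨1, one_ne_zero, by rw [one_smul]; exact Submodule.subset_span ⟨⟨i, hi⟩, rfl⟩⟩
    · obtain ⟨a, ha, ha'⟩ := hI i hi
      refine ⟨a, ha, ?_⟩
      show a • s i ∈ Submodule.span R (Set.range (s ∘ ((↑) : I → Fin n)))
      rwa [Set.range_comp, Subtype.range_coe]
  choose a ha ha' using hex
  let c := ∏ i, a i
  have hc : c ≠ 0 := Finset.prod_ne_zero_iff.2 fun i _ => ha i
  have hmem : ∀ x : A, c • x ∈ N := fun x => by
    have hx : x ∈ Submodule.span R (Set.range s) := by rw [hs]; trivial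
    induction hx using Submodule.span_induction with
    | mem x hx =>
        obtain ⟨i, rfl⟩ := hx
        show (∏ j, a j) • s i ∈ N
        rw [Fintype.prod_eq_prod_compl_mul i, mul_smul]
        exact N.smul_mem _ (ha' i)
    | zero => simp
    | add x y _ _ hx hy => rw [smul_add]; exact N.add_mem hx hy
    | smul r x _ hx => rw [smul_comm]; exact N.smul_mem _ hx
  let b : Module.Basis I R N := Module.Basis.span hind
  let e := (b.reindex (Fintype.equivFin I)).equivFun
  refine ⟨_, e.toLinearMap ∘ₗ (LinearMap.lsmul R A c).codRestrict N hmem, ?_⟩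
  refine e.injective.comp fun x y h => ?_
  have h' : c • x = c • y := congrArg Subtype.val h
  rw [Algebra.smul_def, Algebra.smul_def] at h'
  exact mul_left_cancel₀ (fun h0 => hc (FaithfulSMul.algebraMap_injective R A
    (h0.trans (map_zero _).symm))) h'

end Embed

section Comp

variable (k : Type u) [Field k] (K : Type u) [Field K] [Algebra k K]

/-- `k[x] ⊗_k K ≅ K[x]`. -/
noncomputable def polyTensorEquiv (s : ℕ) :
    MvPolynomial (Fin s) k ⊗[k] K ≃+* MvPolynomial (Fin s) K :=
  (Algebra.TensorProduct.comm k (MvPolynomial (Fin s) k) K).toRingEquiv.trans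
    (MvPolynomial.algebraTensorAlgEquiv k K).toRingEquiv

/-- The components of `A ⊗_k K` have dimension `dim A`, for a domain `A` of finite type. -/
lemma ringKrullDim_quotient_tensor (A : Type u) [CommRing A] [IsDomain A] [Algebra k A]
    [Algebra.FiniteType k A] (Q : Ideal (A ⊗[k] K)) (hQ : Q ∈ minimalPrimes (A ⊗[k] K)) :
    ringKrullDim ((A ⊗[k] K) ⧸ Q) = ringKrullDim A := by
  obtain ⟨s, g, inj, fin⟩ := VarDim.exists_noether k A
  algebraize [g.toRingHom]
  haveI : IsScalarTower k (MvPolynomial (Fin s) k) A :=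
    IsScalarTower.of_algebraMap_eq fun x => (g.commutes x).symm
  haveI : FaithfulSMul (MvPolynomial (Fin s) k) A :=
    (faithfulSMul_iff_algebraMap_injective _ _).mpr inj
  haveI : Module.Finite (MvPolynomial (Fin s) k) A := fin
  haveI : Q.IsPrime := hQ.1.1
  let gK : MvPolynomial (Fin s) k ⊗[k] K →ₐ[k] A ⊗[k] K :=
    Algebra.TensorProduct.map g (AlgHom.id k K)
  haveI : IsDomain (MvPolynomial (Fin s) k ⊗[k] K) :=
    (polyTensorEquiv k K s).toMulEquiv.isDomain _
  have hB : ringKrullDim (MvPolynomial (Fin s) k ⊗[k] K) = s := by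
    rw [ringKrullDim_eq_of_ringEquiv (polyTensorEquiv k K s),
      MvPolynomial.ringKrullDim_of_isNoetherianRing, ringKrullDim_eq_zero_of_field]
    simp
  have hA : ringKrullDim A = s := by
    rw [VarDim.ringKrullDim_eq_of_isIntegral (R := MvPolynomial (Fin s) k),
      MvPolynomial.ringKrullDim_of_isNoetherianRing, ringKrullDim_eq_zero_of_field]
    simp
  -- nonzero elements of `k[x] ⊗ K` are non-zero-divisors on `A ⊗ K`
  have hnzd : ∀ (b : MvPolynomial (Fin s) k ⊗[k] K) (t : A ⊗[k] K),
      b ≠ 0 → gK b * t = 0 → t = 0 := by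
    intro b t hb ht
    obtain ⟨m, j, hj⟩ := exists_injective_pi (MvPolynomial (Fin s) k) A
    let φ : Fin m → (A →ₗ[k] MvPolynomial (Fin s) k) := fun i =>
      ((LinearMap.proj i).comp j).restrictScalars k
    have hφ : ∀ i x y, LinearMap.rTensor K (φ i) (gK x * y) = x * LinearMap.rTensor K (φ i) y := by
      intro i x y
      induction x using TensorProduct.induction_on with
      | zero => simp
      | add x₁ x₂ h₁ h₂ => rw [map_add, add_mul, map_add, h₁, h₂, add_mul]
      | tmul p c =>
        induction y using TensorProduct.induction_on with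
        | zero => simp
        | add y₁ y₂ h₁ h₂ => rw [mul_add, map_add, h₁, h₂, map_add, mul_add]
        | tmul a d =>
          simp only [gK, Algebra.TensorProduct.map_tmul, Algebra.TensorProduct.tmul_mul_tmul,
            LinearMap.rTensor_tmul, AlgHom.id_apply]
          congr 1
          show j (g p * a) i = p * j a i
          have hpa : g p * a = p • a := (Algebra.smul_def p a).symm
          rw [hpa, map_smul, Pi.smul_apply, smul_eq_mul]
    have h0 : ∀ i, LinearMap.rTensor K (φ i) t = 0 := fun i => by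
      have h := hφ i b t
      rw [ht, map_zero] at h
      exact (mul_eq_zero.1 h.symm).resolve_left hb
    have hsum : j.restrictScalars k =
        ∑ i, (LinearMap.single k (fun _ : Fin m => MvPolynomial (Fin s) k) i).comp (φ i) := by
      refine LinearMap.ext fun a => ?_
      rw [LinearMap.sum_apply]
      simp only [φ, LinearMap.comp_apply, LinearMap.coe_restrictScalars, LinearMap.proj_apply,
        LinearMap.coe_single]
      exact (Finset.univ_sum_single (j a)).symm
    refine Module.Flat.rTensor_preserves_injective_linearMap (M := K) (j.restrictScalars k) hj ?_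
    rw [map_zero, hsum, ← LinearMap.coe_rTensorHom, map_sum, LinearMap.sum_apply]
    refine Finset.sum_eq_zero fun i _ => ?_
    rw [LinearMap.coe_rTensorHom, LinearMap.rTensor_comp, LinearMap.comp_apply, h0 i, map_zero]
  -- hence `k[x] ⊗ K → (A ⊗ K) / Q` is injective
  have hinjQ : Function.Injective ((Ideal.Quotient.mk Q).comp gK.toRingHom) := by
    rw [injective_iff_map_eq_zero]
    intro b hb
    by_contra hb0
    refine Set.disjoint_left.1 (Ideal.disjoint_nonZeroDivisors_of_mem_minimalPrimes hQ)
      (Ideal.Quotient.eq_zero_iff_mem.1 hb) ?_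
    rw [SetLike.mem_coe, mem_nonZeroDivisors_iff_right]
    exact fun t ht => hnzd b t hb0 (by rw [mul_comm]; exact ht)
  -- and integral
  have hint : gK.toRingHom.IsIntegral := by
    intro t
    induction t using TensorProduct.induction_on with
    | zero => exact gK.toRingHom.isIntegralElem_zero
    | add x y hx hy => exact RingHom.IsIntegralElem.add _ hx hy
    | tmul a c =>
      have h1 : a ⊗ₜ[k] c = (a ⊗ₜ[k] (1 : K)) * gK (1 ⊗ₜ[k] c) := by
        simp [gK]
      rw [h1]
      refine RingHom.IsIntegralElem.mul _ ?_ gK.toRingHom.isIntegralElem_map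
      obtain ⟨p, hp, hpa⟩ := Algebra.IsIntegral.isIntegral (R := MvPolynomial (Fin s) k) a
      refine ⟨p.map Algebra.TensorProduct.includeLeftRingHom, hp.map _, ?_⟩
      have hcomp : gK.toRingHom.comp Algebra.TensorProduct.includeLeftRingHom =
          (Algebra.TensorProduct.includeLeftRingHom (R := k) (A := A) (B := K)).comp
            (algebraMap (MvPolynomial (Fin s) k) A) := by
        refine RingHom.ext fun x => ?_
        show gK (x ⊗ₜ[k] (1 : K)) = (g x) ⊗ₜ[k] (1 : K)
        simp [gK]
      rw [Polynomial.eval₂_map, hcomp]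
      have h2 := Polynomial.hom_eval₂ p (algebraMap (MvPolynomial (Fin s) k) A)
        (Algebra.TensorProduct.includeLeftRingHom (R := k) (A := A) (B := K)) a
      rw [hpa, map_zero] at h2
      exact h2.symm
  letI := ((Ideal.Quotient.mk Q).comp gK.toRingHom).toAlgebra
  haveI : FaithfulSMul (MvPolynomial (Fin s) k ⊗[k] K) ((A ⊗[k] K) ⧸ Q) :=
    (faithfulSMul_iff_algebraMap_injective _ _).mpr hinjQ
  haveI : Algebra.IsIntegral (MvPolynomial (Fin s) k ⊗[k] K) ((A ⊗[k] K) ⧸ Q) := by
    refine ⟨fun x => ?_⟩
    exact RingHom.IsIntegral.trans _ _ hint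
      (RingHom.isIntegral_of_surjective _ Ideal.Quotient.mk_surjective) x
  rw [VarDim.ringKrullDim_eq_of_isIntegral (R := MvPolynomial (Fin s) k ⊗[k] K), hB, hA]

variable (S : Type u) [CommRing S] [Algebra k S] [Algebra.FiniteType k S]

/-- A minimal prime of `S ⊗_k K` lies over a minimal prime of `S`, with the same dimension. -/
lemma under_mem_minimalPrimes_and_ringKrullDim_eq (Q : Ideal (S ⊗[k] K))
    (hQ : Q ∈ minimalPrimes (S ⊗[k] K)) :
    Q.under S ∈ minimalPrimes S ∧
      ringKrullDim ((S ⊗[k] K) ⧸ Q) = ringKrullDim (S ⧸ Q.under S) := by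
  haveI := hQ.1.1
  constructor
  · refine ⟨⟨inferInstance, bot_le⟩, fun p hp hle => ?_⟩
    haveI := hp.1
    obtain ⟨Q', hQ'le, hQ'p, hQ'o⟩ :=
      Ideal.exists_ideal_le_liesOver_of_le (p := p) (q := Q.under S) Q hle
    rw [hQ'o.over]
    exact Ideal.comap_mono (hQ.2 ⟨hQ'p, bot_le⟩ hQ'le)
  set P := Q.under S with hP
  haveI : Algebra.FiniteType k (S ⧸ P) := VarDim.finiteType_quotient k S P
  let π : S ⊗[k] K →ₐ[k] (S ⧸ P) ⊗[k] K :=
    Algebra.TensorProduct.map (Ideal.Quotient.mkₐ k P) (AlgHom.id k K)
  have hsurj : Function.Surjective π :=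
    TensorProduct.map_surjective Ideal.Quotient.mk_surjective Function.surjective_id
  have hker : RingHom.ker π ≤ Q := by
    rw [Algebra.TensorProduct.rTensor_ker _ Ideal.Quotient.mk_surjective, Ideal.map_le_iff_le_comap]
    intro x hx
    rw [RingHom.mem_ker, Ideal.Quotient.mkₐ_eq_mk, Ideal.Quotient.eq_zero_iff_mem] at hx
    exact hx
  let Q' : Ideal ((S ⧸ P) ⊗[k] K) := Q.map π
  haveI : Q'.IsPrime := Ideal.map_isPrime_of_surjective hsurj hker
  have hback : Q'.comap π = Q := by
    rw [Ideal.comap_map_of_surjective _ hsurj]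
    exact sup_eq_left.2 hker
  have hQ' : Q' ∈ minimalPrimes ((S ⧸ P) ⊗[k] K) := by
    refine ⟨⟨inferInstance, bot_le⟩, fun p hp hle => ?_⟩
    haveI := hp.1
    have h1 : Q ≤ p.comap π := hQ.2 ⟨inferInstance, bot_le⟩ (hback ▸ Ideal.comap_mono hle)
    rw [← Ideal.map_comap_of_surjective _ hsurj p]
    exact Ideal.map_mono h1
  haveI : (Q.under S).IsPrime := inferInstance
  rw [← ringKrullDim_quotient_tensor k K (S ⧸ P) Q' hQ']
  let f : S ⊗[k] K →+* ((S ⧸ P) ⊗[k] K) ⧸ Q' := (Ideal.Quotient.mk Q').comp π.toRingHom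
  have hf : RingHom.ker f = Q := by
    rw [← RingHom.comap_ker, Ideal.mk_ker]
    exact hback
  exact ringKrullDim_eq_of_ringEquiv ((Ideal.quotEquivOfEq hf.symm).trans
    (RingHom.quotientKerEquivOfSurjective (f := f) (Ideal.Quotient.mk_surjective.comp hsurj)))

end Comp

end Groth.Agent.TrdegDim
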