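import Groth.Agent.VarDim.Algebra
import Mathlib.RingTheory.LocalRing.ResidueField.Ideal
import Mathlib.RingTheory.Ideal.KrullsHeightTheorem

/-!
# Dimension at a prime of a finite type algebra over a field

For `q` a prime of a finite type `k`-algebra `S` with `r = trdeg_k κ(q)`, the number `ht q + r` is
the maximum of `dim S/P` over the minimal primes `P ⊆ q`.
-/

set_option autoImplicit false
set_option linter.style.haveILetI false
universe u

namespace Groth.Agent.TrdegDim

variable {k : Type u} [Field k] {S : Type u} [CommRing S] [Algebra k S] [Algebra.FiniteType k S]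

/-- The transcendence degree of a residue field is the dimension of the quotient. -/
lemma ringKrullDim_quotient_eq (q : Ideal S) [q.IsPrime] (r : ℕ)
    (hr : Algebra.trdeg k q.ResidueField = r) : ringKrullDim (S ⧸ q) = r := by
  haveI : Algebra.FiniteType k (S ⧸ q) := VarDim.finiteType_quotient k S q
  refine VarDim.ringKrullDim_eq_of_trdeg_eq k (S ⧸ q) ?_
  haveI : FaithfulSMul (S ⧸ q) q.ResidueField := inferInstance
  haveI : Algebra.IsAlgebraic (S ⧸ q) q.ResidueField :=
    IsLocalization.isAlgebraic q.ResidueField (nonZeroDivisors (S ⧸ q))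
  have h := trdeg_add_eq k (S ⧸ q) (A := q.ResidueField)
  rw [trdeg_eq_zero (R := S ⧸ q) (A := q.ResidueField), add_zero] at h
  exact h.trans hr

/-- For `P ≤ q`: `dim S/P = ht (q/P) + r`. -/
lemma ringKrullDim_quotient_eq_add (q P : Ideal S) [q.IsPrime] [P.IsPrime] (hPq : P ≤ q) (r : ℕ)
    (hr : Algebra.trdeg k q.ResidueField = r) :
    ringKrullDim (S ⧸ P) = ((q.map (Ideal.Quotient.mk P)).height : WithBot ℕ∞) + r := by
  haveI : Algebra.FiniteType k (S ⧸ P) := VarDim.finiteType_quotient k S P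
  haveI : (q.map (Ideal.Quotient.mk P)).IsPrime :=
    Ideal.map_isPrime_of_surjective Ideal.Quotient.mk_surjective (by rwa [Ideal.mk_ker])
  rw [← VarDim.ringKrullDim_quotient_add_height k (S ⧸ P) (q.map (Ideal.Quotient.mk P)),
    ringKrullDim_eq_of_ringEquiv (DoubleQuot.quotQuotEquivQuotOfLE hPq),
    ringKrullDim_quotient_eq q r hr, add_comm]

/-- `dim S/P ≤ ht q + r` for every prime `P ≤ q`. -/
lemma ringKrullDim_quotient_le (q P : Ideal S) [q.IsPrime] [P.IsPrime] (hPq : P ≤ q) (r : ℕ)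
    (hr : Algebra.trdeg k q.ResidueField = r) :
    ringKrullDim (S ⧸ P) ≤ (q.height : WithBot ℕ∞) + r := by
  rw [ringKrullDim_quotient_eq_add q P hPq r hr]
  haveI : (q.map (Ideal.Quotient.mk P)).IsPrime :=
    Ideal.map_isPrime_of_surjective Ideal.Quotient.mk_surjective (by rwa [Ideal.mk_ker])
  refine add_le_add (WithBot.coe_le_coe.2 ?_) le_rfl
  have hc : (q.map (Ideal.Quotient.mk P)).comap (Ideal.Quotient.mk P) = q := by
    rw [Ideal.comap_map_of_surjective' _ Ideal.Quotient.mk_surjective, Ideal.mk_ker, sup_eq_left.2 hPq]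
  conv_rhs => rw [← hc]
  rw [(⟨q.map (Ideal.Quotient.mk P), ‹_›⟩ : PrimeSpectrum (S ⧸ P)).height_eq_orderHeight,
    (⟨(q.map (Ideal.Quotient.mk P)).comap (Ideal.Quotient.mk P), inferInstance⟩ :
      PrimeSpectrum S).height_eq_orderHeight]
  exact Order.height_le_height_apply_of_strictMono (PrimeSpectrum.comap (Ideal.Quotient.mk P))
    (fun a b hab => lt_of_le_of_ne (Ideal.comap_mono hab.le) fun h => hab.ne
      (PrimeSpectrum.ext (Ideal.comap_injective_of_surjective _ Ideal.Quotient.mk_surjective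
        (congrArg PrimeSpectrum.asIdeal h)))) ⟨q.map (Ideal.Quotient.mk P), ‹_›⟩

/-- Some minimal prime below `q` attains `ht q + r`. -/
lemma exists_minimalPrime_eq (q : Ideal S) [q.IsPrime] (r : ℕ)
    (hr : Algebra.trdeg k q.ResidueField = r) :
    ∃ P ∈ minimalPrimes S, P ≤ q ∧ ringKrullDim (S ⧸ P) = (q.height : WithBot ℕ∞) + r := by
  haveI : IsNoetherianRing S := Algebra.FiniteType.isNoetherianRing k S
  obtain ⟨n, hn⟩ := ENat.ne_top_iff_exists.1 (Ideal.height_ne_top_of_isPrime (I := q))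
  obtain ⟨l, hl, hlen⟩ := Order.exists_series_of_height_eq_coe (⟨q, ‹_›⟩ : PrimeSpectrum S) (n := n)
    (by rw [← PrimeSpectrum.height_eq_orderHeight]; exact hn.symm)
  obtain ⟨P, hP, hPle⟩ := Ideal.exists_minimalPrimes_le (bot_le : (⊥ : Ideal S) ≤ l.head.asIdeal)
  haveI := hP.1.1
  have hall : ∀ i, P ≤ (l i).asIdeal := fun i => hPle.trans (l.monotone (Fin.zero_le i))
  have hPq : P ≤ q := (hall (Fin.last _)).trans (le_of_eq (congrArg PrimeSpectrum.asIdeal hl))
  refine ⟨P, hP, hPq, le_antisymm (ringKrullDim_quotient_le q P hPq r hr) ?_⟩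
  rw [ringKrullDim_quotient_eq_add q P hPq r hr, ← hn]
  haveI : (q.map (Ideal.Quotient.mk P)).IsPrime :=
    Ideal.map_isPrime_of_surjective Ideal.Quotient.mk_surjective (by rwa [Ideal.mk_ker])
  refine add_le_add (WithBot.coe_le_coe.2 ?_) le_rfl
  rw [(⟨q.map (Ideal.Quotient.mk P), ‹_›⟩ : PrimeSpectrum (S ⧸ P)).height_eq_orderHeight, ← hlen]
  have hpr : ∀ i, ((l i).asIdeal.map (Ideal.Quotient.mk P)).IsPrime := fun i =>
    haveI := (l i).2
    Ideal.map_isPrime_of_surjective Ideal.Quotient.mk_surjective (by rw [Ideal.mk_ker]; exact hall i)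
  have hback : ∀ i, ((l i).asIdeal.map (Ideal.Quotient.mk P)).comap (Ideal.Quotient.mk P) =
      (l i).asIdeal := fun i => by
    rw [Ideal.comap_map_of_surjective' _ Ideal.Quotient.mk_surjective, Ideal.mk_ker,
      sup_eq_left.2 (hall i)]
  let l' : LTSeries (PrimeSpectrum (S ⧸ P)) :=
    ⟨l.length, fun i => ⟨_, hpr i⟩, fun i => by
      show (⟨_, hpr i.castSucc⟩ : PrimeSpectrum (S ⧸ P)) < ⟨_, hpr i.succ⟩
      refine lt_of_le_of_ne (Ideal.map_mono (f := Ideal.Quotient.mk P) (l.step i).le) fun h => (l.step i).ne (PrimeSpectrum.ext ?_)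
      rw [← hback i.castSucc, ← hback i.succ]
      exact congrArg (Ideal.comap (Ideal.Quotient.mk P)) (congrArg PrimeSpectrum.asIdeal h)⟩
  refine Order.length_le_height (p := l') ?_
  show (⟨_, hpr (Fin.last _)⟩ : PrimeSpectrum (S ⧸ P)) ≤ _
  exact Ideal.map_mono (le_of_eq (congrArg PrimeSpectrum.asIdeal hl))

end Groth.Agent.TrdegDim
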